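import Cfsg.Agent.H907.Odm.CovPre

/-!
# TEAM ODDM, E-LEM: stabilizers of nondegenerate planes in `PΩ_{2m}^ε(q)`, `q` and `m` odd
-/

set_option autoImplicit false
set_option linter.unusedSectionVars false

namespace Cfsg.Agent.H907.Odm

open Cfsg Cfsg.Geo Matrix Cfsg.Agent.H453.OddM Cfsg.Agent.H884.El
open Cfsg.Agent.ClassicalGeometry.Reflection Cfsg.Agent.LieClassical.OmegaReindex

section plane

variable {F : Type*} [Field F] {V : Type*} [AddCommGroup V] [Module F V]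

/-- a unipotent isometry with `(L - 1)^3 = 0` fixes each vector of an invariant nondegenerate plane -/
theorem plane_fix (h2 : (2 : F) ≠ 0) (Q : QuadraticForm F V) (L : V →ₗ[F] V) (hL : ∀ v, Q (L v) = Q v)
    (hcub : ∀ v, L (L (L v)) = (3 : F) • L (L v) - (3 : F) • L v + v) {W : Submodule F V}
    (hW : Module.finrank F W = 2) (hWL : ∀ w ∈ W, L w ∈ W)
    (hnd : ∀ w ∈ W, (∀ x ∈ W, QuadraticMap.polar (⇑Q) w x = 0) → w = 0) {w : V} (hw : w ∈ W) : L w = w := by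
  by_contra hne
  -- the vectors `w₁`, `w₀ = L w₁ - w₁`
  obtain ⟨w₁, hw₁, w₀, hw₀, hw00, h1, h0⟩ : ∃ w₁ ∈ W, ∃ w₀ ∈ W, w₀ ≠ 0 ∧ L w₁ = w₁ + w₀ ∧ L w₀ = w₀ := by
    by_cases h : L (L w - w) = L w - w
    · exact ⟨w, hw, L w - w, W.sub_mem (hWL w hw) hw, sub_ne_zero.2 hne, by abel, h⟩
    · refine ⟨L w - w, W.sub_mem (hWL w hw) hw, L (L w - w) - (L w - w),
        W.sub_mem (hWL _ (W.sub_mem (hWL w hw) hw)) (W.sub_mem (hWL w hw) hw), sub_ne_zero.2 h, by abel, ?_⟩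
      simp only [map_sub]
      rw [hcub]
      module
  -- orthogonality
  have e1 : Q (w₁ + w₀) = Q w₁ := by rw [← h1]; exact hL w₁
  have e2 : Q (w₁ + w₀ + w₀) = Q w₁ := by
    have h3 := hL (w₁ + w₀)
    rw [LinearMap.map_add, h1, h0] at h3
    rw [h3, e1]
  have q1 : QuadraticMap.polar (⇑Q) w₁ w₀ = - Q w₀ := by
    rw [QuadraticMap.polar, e1]; ring
  have q2 : QuadraticMap.polar (⇑Q) w₁ (w₀ + w₀) = - Q (w₀ + w₀) := by
    rw [QuadraticMap.polar, ← add_assoc, e2]; ring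
  have q3 : Q (w₀ + w₀) = 4 * Q w₀ := by
    have := QuadraticMap.map_smul Q (2 : F) w₀
    rw [two_smul] at this
    rw [this, smul_eq_mul]
    ring
  rw [QuadraticMap.polar_add_right, q1, q3] at q2
  have q0 : Q w₀ = 0 := by
    have h3 : 2 * Q w₀ = 0 := by linear_combination q2
    exact (mul_eq_zero.1 h3).resolve_left h2
  have q4 : QuadraticMap.polar (⇑Q) w₀ w₁ = 0 := by rw [QuadraticMap.polar_comm, q1, q0, neg_zero]
  have q5 : QuadraticMap.polar (⇑Q) w₀ w₀ = 0 := by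
    rw [QuadraticMap.polar, q3, q0]; ring
  refine hw00 (hnd w₀ hw₀ fun x hx => ?_)
  -- `W` is spanned by `w₀` and `w₁`
  have hli : LinearIndependent F ![w₀, w₁] := by
    rw [LinearIndependent.pair_iff]
    intro s t hst
    have h3 := congrArg L hst
    rw [map_add, map_smul, map_smul, h0, h1, map_zero, smul_add] at h3
    have h4 : t • w₀ = 0 := by
      have : s • w₀ + (t • w₁ + t • w₀) - (s • w₀ + t • w₁) = t • w₀ := by abel
      rw [← this, h3, hst, sub_zero]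
    have ht : t = 0 := (smul_eq_zero.1 h4).resolve_right hw00
    subst ht
    rw [zero_smul, add_zero] at hst
    exact ⟨(smul_eq_zero.1 hst).resolve_right hw00, rfl⟩
  have hspan : Submodule.span F (Set.range ![w₀, w₁]) = W := by
    have : FiniteDimensional F W := Module.finite_of_finrank_pos (by rw [hW]; norm_num)
    refine Submodule.eq_of_le_of_finrank_eq ?_ ?_
    · rw [Submodule.span_le]
      rintro _ ⟨i, rfl⟩
      fin_cases i
      · exact hw₀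
      · exact hw₁
    · rw [finrank_span_eq_card hli, hW, Fintype.card_fin]
  rw [← hspan] at hx
  refine Submodule.span_induction ?_ ?_ ?_ ?_ hx
  · rintro _ ⟨i, rfl⟩
    fin_cases i
    · exact q5
    · exact q4
  · exact QuadraticMap.polar_zero_right Q w₀
  · intro a b _ _ ha hb
    rw [QuadraticMap.polar_add_right, ha, hb, add_zero]
  · intro c a _ ha
    rw [QuadraticMap.polar_smul_right, ha, smul_zero]

/-- an invariant nondegenerate plane contains a nonsingular fixed vector -/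
theorem exists_fix (h2 : (2 : F) ≠ 0) (Q : QuadraticForm F V) (L : V →ₗ[F] V) (hL : ∀ v, Q (L v) = Q v)
    (hcub : ∀ v, L (L (L v)) = (3 : F) • L (L v) - (3 : F) • L v + v) {W : Submodule F V}
    (hW : Module.finrank F W = 2) (hWL : ∀ w ∈ W, L w ∈ W)
    (hnd : ∀ w ∈ W, (∀ x ∈ W, QuadraticMap.polar (⇑Q) w x = 0) → w = 0) : ∃ v, Q v ≠ 0 ∧ L v = v := by
  by_contra hc
  push Not at hc
  have h1 : ∀ v ∈ W, Q v = 0 := fun v hv => by
    by_contra h
    exact hc v h (plane_fix h2 Q L hL hcub hW hWL hnd hv)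
  have h3 : W = ⊥ := by
    rw [eq_bot_iff]
    intro v hv
    refine hnd v hv fun x hx => ?_
    rw [QuadraticMap.polar, h1 _ (W.add_mem hv hx), h1 _ hv, h1 _ hx, sub_zero, sub_zero]
  rw [h3, finrank_bot] at hW
  exact absurd hW (by norm_num)

end plane

variable {ι : Type} [Fintype ι] [DecidableEq ι] {F : Type*} [Field F] {Q : (ι → F) → F}

theorem conj_fix (h2 : (2 : F) ≠ 0) (q : QuadraticForm F (ι → F)) (hq : ⇑q = Q) {u : Matrix.GeneralLinearGroup ι F}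
    (hcub : ∀ v, (u : Matrix ι ι F) *ᵥ ((u : Matrix ι ι F) *ᵥ ((u : Matrix ι ι F) *ᵥ v)) =
      (3 : F) • (u : Matrix ι ι F) *ᵥ ((u : Matrix ι ι F) *ᵥ v) - (3 : F) • (u : Matrix ι ι F) *ᵥ v + v)
    (hns : ∀ v, Q v ≠ 0 → ∀ c : F, (u : Matrix ι ι F) *ᵥ v ≠ c • v)
    {z y : Matrix.GeneralLinearGroup ι F} (hz : z = y * u * y⁻¹) (hyq : ∀ v, Q ((y : Matrix ι ι F) *ᵥ v) = Q v)
    (hzq : ∀ v, Q ((z : Matrix ι ι F) *ᵥ v) = Q v)
    {W : Submodule F (ι → F)} (hW : Module.finrank F W = 2)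
    (hnd : ∀ w ∈ W, (∀ x ∈ W, QuadraticMap.polar Q w x = 0) → w = 0)
    (hst : ∀ w ∈ W, (z : Matrix ι ι F) *ᵥ w ∈ W) : False := by
  subst hq
  have hact : ∀ v, (z : Matrix ι ι F) *ᵥ v = (y : Matrix ι ι F) *ᵥ ((u : Matrix ι ι F) *ᵥ
      (((y⁻¹ : Matrix.GeneralLinearGroup ι F) : Matrix ι ι F) *ᵥ v)) := by
    intro v
    rw [hz, Matrix.mulVec_mulVec, Matrix.mulVec_mulVec, Units.val_mul, Units.val_mul, Matrix.mul_assoc]
  have hyy : ∀ v, ((y⁻¹ : Matrix.GeneralLinearGroup ι F) : Matrix ι ι F) *ᵥ ((y : Matrix ι ι F) *ᵥ v) = v := by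
    intro v
    rw [Matrix.mulVec_mulVec, ← Units.val_mul, inv_mul_cancel, Units.val_one, Matrix.one_mulVec]
  have hyy' : ∀ v, (y : Matrix ι ι F) *ᵥ (((y⁻¹ : Matrix.GeneralLinearGroup ι F) : Matrix ι ι F) *ᵥ v) = v := by
    intro v
    rw [Matrix.mulVec_mulVec, ← Units.val_mul, mul_inv_cancel, Units.val_one, Matrix.one_mulVec]
  obtain ⟨v, hv, hfix⟩ := exists_fix h2 q (Matrix.mulVecLin (z : Matrix ι ι F)) (fun v => hzq v)
    (fun v => by
      simp only [Matrix.mulVecLin_apply, hact, hyy]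
      rw [hcub, Matrix.mulVec_add, Matrix.mulVec_sub, Matrix.mulVec_smul, Matrix.mulVec_smul, hyy'])
    hW (fun w hw => hst w hw) hnd
  rw [Matrix.mulVecLin_apply, hact] at hfix
  have h3 := congrArg (fun z => ((y⁻¹ : Matrix.GeneralLinearGroup ι F) : Matrix ι ι F) *ᵥ z) hfix
  simp only [hyy] at h3
  refine hns _ ?_ 1 (h3.trans (one_smul F _).symm)
  rw [← hyq, hyy']
  exact hv

/-- subgroups of `PΩ(Q)` fixing a nondegenerate plane are not `Cov` -/
theorem RealNU.not_cov_plane (h2 : (2 : F) ≠ 0) (q : QuadraticForm F (ι → F)) (hq : ⇑q = Q) (h : RealNU Q)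
    {M : Subgroup (POmega F Q)} {W : Submodule F (ι → F)} (hW : Module.finrank F W = 2)
    (hnd : ∀ w ∈ W, (∀ x ∈ W, QuadraticMap.polar Q w x = 0) → w = 0)
    (hM : pre Q M ≤ subspaceStabilizer W) : ¬ Cov (POmega F Q) M := by
  intro hc
  obtain ⟨u, hu, ⟨g, hg, hgu⟩, hcub, hns⟩ := h
  have hr : IsReal (QuotientGroup.mk' (Subgroup.center (Omega F Q)) ⟨u, hu⟩) :=
    IsReal.map (⟨⟨g, hg⟩, Subtype.ext hgu⟩ : IsReal (⟨u, hu⟩ : Omega F Q)) _
  obtain ⟨t, ht⟩ := hc.2 _ hr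
  obtain ⟨y, rfl⟩ := QuotientGroup.mk'_surjective _ t
  rw [← map_mul, ← map_inv, ← map_mul] at ht
  have hst := hM (mem_pre.2 ht)
  have hy := (mem_isometryGroup_iff Q _).1 (y : isometryGroup F Q).2
  have hz := (mem_isometryGroup_iff Q _).1 ((y * ⟨u, hu⟩ * y⁻¹ : Omega F Q) : isometryGroup F Q).2
  have hzz : ((((y * ⟨u, hu⟩ * y⁻¹ : Omega F Q) : isometryGroup F Q) : Matrix.GeneralLinearGroup ι F)) =
      ((y : isometryGroup F Q) : Matrix.GeneralLinearGroup ι F) * (u : Matrix.GeneralLinearGroup ι F) *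
        ((y : isometryGroup F Q) : Matrix.GeneralLinearGroup ι F)⁻¹ := by
    rw [Subgroup.coe_mul, Subgroup.coe_mul, Subgroup.coe_mul, Subgroup.coe_mul, Subgroup.coe_inv, Subgroup.coe_inv]
  have hst' : ∀ w ∈ W, ((((y * ⟨u, hu⟩ * y⁻¹ : Omega F Q) : isometryGroup F Q) :
      Matrix.GeneralLinearGroup ι F) : Matrix ι ι F) *ᵥ w ∈ W := fun w hw => (hst w).1 hw
  exact conj_fix h2 q hq hcub hns hzz hy hz hW hnd hst'

/-- **nondegenerate planes, plus type** -/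
theorem not_cov_plane_plus [Finite F] (h2 : (2 : F) ≠ 0) {m : ℕ} (hm : 3 ≤ m) (hodd : Odd m)
    {M : Subgroup (POmega F (quadFormPlus m F))} {W : Submodule F (Fin m ⊕ Fin m → F)}
    (hW : Module.finrank F W = 2)
    (hnd : ∀ w ∈ W, (∀ x ∈ W, QuadraticMap.polar (quadFormPlus m F) w x = 0) → w = 0)
    (hM : pre (quadFormPlus m F) M ≤ subspaceStabilizer W) : ¬ Cov (POmega F (quadFormPlus m F)) M :=
  (realNU_plus h2 hm hodd).not_cov_plane h2 (quadPlus m F) (coe_quadPlus m F) hW hnd hM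

/-- **nondegenerate planes, minus type** -/
theorem not_cov_plane_minus [Finite F] (h2 : (2 : F) ≠ 0) {m : ℕ} (hm : 3 ≤ m) (hodd : Odd m) {a b : F}
    (hab : ∀ z₁ z₂ : F, z₁ ^ 2 + a * z₁ * z₂ + b * z₂ ^ 2 = 0 → z₁ = 0 ∧ z₂ = 0)
    {M : Subgroup (POmega F (quadFormMinus (m - 1) F a b))}
    {W : Submodule F ((Fin (m - 1) ⊕ Fin (m - 1)) ⊕ Fin 2 → F)} (hW : Module.finrank F W = 2)
    (hnd : ∀ w ∈ W, (∀ x ∈ W, QuadraticMap.polar (quadFormMinus (m - 1) F a b) w x = 0) → w = 0)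
    (hM : pre (quadFormMinus (m - 1) F a b) M ≤ subspaceStabilizer W) :
    ¬ Cov (POmega F (quadFormMinus (m - 1) F a b)) M :=
  (realNU_minus h2 hm hodd hab).not_cov_plane h2 (quadMinus (m - 1) F a b) (coe_quadMinus (m - 1) F a b) hW hnd hM

end Cfsg.Agent.H907.Odm
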