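import Cfsg.Agent.H907.Odm.Cov
import Cfsg.Agent.H884.ElT

/-!
# TEAM ODDM, C8: `N_1` of `PΩ_{2m}^ε(q)`, `q` and `m` odd, in the interface of `H884.El.pre`
-/

set_option autoImplicit false
set_option linter.unusedSectionVars false

namespace Cfsg.Agent.H907.Odm

open Cfsg Cfsg.Geo Matrix Cfsg.Agent.H453.OddM Cfsg.Agent.H884.El

variable {ι : Type} [Fintype ι] [DecidableEq ι] {F : Type*} [Field F] {Q : (ι → F) → F}

/-- subgroups of `PΩ(Q)` fixing a nonsingular line are not `Cov` -/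
theorem RealNS.not_cov (h : RealNS Q) {M : Subgroup (POmega F Q)} {v : ι → F} (hv : Q v ≠ 0)
    (hM : pre Q M ≤ subspaceStabilizer (Submodule.span F {v})) : ¬ Cov (POmega F Q) M := by
  refine h.not_cov' hv fun x hx => ?_
  have h1 := (hM (mem_pre.2 hx) v).1 (Submodule.mem_span_singleton_self v)
  obtain ⟨c, hc⟩ := Submodule.mem_span_singleton.1 h1
  exact ⟨c, hc.symm⟩

/-- **`N_1` of `PΩ^+_{2m}(q)`**, `q` and `m` odd. -/
theorem not_cov_plus [Finite F] (h2 : (2 : F) ≠ 0) {m : ℕ} (hm : 3 ≤ m) (hodd : Odd m)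
    {M : Subgroup (POmega F (quadFormPlus m F))} {v : Fin m ⊕ Fin m → F} (hv : quadFormPlus m F v ≠ 0)
    (hM : pre (quadFormPlus m F) M ≤ subspaceStabilizer (Submodule.span F {v})) :
    ¬ Cov (POmega F (quadFormPlus m F)) M :=
  (realNS_plus h2 hm hodd).not_cov hv hM

/-- **`N_1` of `PΩ^-_{2m}(q)`**, `q` and `m` odd. -/
theorem not_cov_minus [Finite F] (h2 : (2 : F) ≠ 0) {m : ℕ} (hm : 3 ≤ m) (hodd : Odd m) {a b : F}
    (hab : ∀ z₁ z₂ : F, z₁ ^ 2 + a * z₁ * z₂ + b * z₂ ^ 2 = 0 → z₁ = 0 ∧ z₂ = 0)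
    {M : Subgroup (POmega F (quadFormMinus (m - 1) F a b))} {v : (Fin (m - 1) ⊕ Fin (m - 1)) ⊕ Fin 2 → F}
    (hv : quadFormMinus (m - 1) F a b v ≠ 0)
    (hM : pre (quadFormMinus (m - 1) F a b) M ≤ subspaceStabilizer (Submodule.span F {v})) :
    ¬ Cov (POmega F (quadFormMinus (m - 1) F a b)) M :=
  (realNS_minus h2 hm hodd hab).not_cov hv hM

end Cfsg.Agent.H907.Odm
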