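import Cfsg.Agent.ClassicalGeometry.OmegaIndex
import Cfsg.Agent.ClassicalGeometry.NegOneOmega
import Cfsg.Agent.LieClassical.OmegaReindex

/-!
# A real unipotent element of `Ω_{2m}^ε(q)`, `q` and `m` odd, without nonsingular eigenvectors (TEAM ODDM, C8)
-/

set_option autoImplicit false
set_option linter.unusedSectionVars false

namespace Cfsg.Agent.H907.Odm

open QuadraticMap Matrix Cfsg.Agent.ClassicalGeometry.Reflection
open Cfsg.Agent.ClassicalGeometry.SpinorSign Cfsg.Agent.ClassicalGeometry.Universal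
open Cfsg.Agent.ClassicalGeometry.OmegaIndex

section iso

variable {ι : Type} [Fintype ι] [DecidableEq ι] {F : Type*} [Field F]

/-- an isometry from a linear equivalence -/
def mkIso (Q : (ι → F) → F) (L : (ι → F) ≃ₗ[F] (ι → F)) (h : ∀ v, Q (L v) = Q v) : Cfsg.isometryGroup F Q :=
  ⟨⟨LinearMap.toMatrix' (L : (ι → F) →ₗ[F] (ι → F)), LinearMap.toMatrix' (L.symm : (ι → F) →ₗ[F] (ι → F)), by
      rw [← LinearMap.toMatrix'_comp, LinearEquiv.comp_coe, LinearEquiv.symm_trans_self]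
      exact LinearMap.toMatrix'_id, by
      rw [← LinearMap.toMatrix'_comp, LinearEquiv.comp_coe, LinearEquiv.self_trans_symm]
      exact LinearMap.toMatrix'_id⟩, (mem_isometryGroup_iff _ _).2 fun x => by
        change Q (LinearMap.toMatrix' (L : (ι → F) →ₗ[F] (ι → F)) *ᵥ x) = Q x
        rw [LinearMap.toMatrix'_mulVec]
        exact h x⟩

theorem mkIso_mulVec (Q : (ι → F) → F) (L : (ι → F) ≃ₗ[F] (ι → F)) (h : ∀ v, Q (L v) = Q v) (v : ι → F) :
    ((mkIso Q L h : Matrix.GeneralLinearGroup ι F) : Matrix ι ι F) *ᵥ v = L v := by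
  change LinearMap.toMatrix' (L : (ι → F) →ₗ[F] (ι → F)) *ᵥ v = L v
  rw [LinearMap.toMatrix'_mulVec]
  rfl

theorem det_mkIso (Q : (ι → F) → F) (L : (ι → F) ≃ₗ[F] (ι → F)) (h : ∀ v, Q (L v) = Q v) :
    ((mkIso Q L h : Matrix.GeneralLinearGroup ι F) : Matrix ι ι F).det = LinearMap.det (L : (ι → F) →ₗ[F] (ι → F)) :=
  LinearMap.det_toMatrix' _

end iso

section crit

variable {ι : Type} [Fintype ι] [DecidableEq ι] {F : Type*} [Field F] [Finite F]

/-- squares of elements conjugate to their inverse lie in `Ω` -/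
theorem sq_mem_Omega (h2 : (2 : F) ≠ 0) (Q : QuadraticForm F (ι → F))
    (hQ : (QuadraticMap.polarBilin Q).Nondegenerate) (hn : 2 ≤ Fintype.card ι) {w g : Cfsg.isometryGroup F (⇑Q)}
    (hg : g * w * g⁻¹ = w⁻¹) : w * w ∈ Cfsg.Omega F (⇑Q) := by
  rw [mem_Omega_iff h2 Q hQ hn one_ne_zero]
  let d : Cfsg.isometryGroup F (⇑Q) →* Fˣ :=
    Matrix.GeneralLinearGroup.det.comp (Cfsg.isometryGroup F (⇑Q)).subtype
  constructor
  · have h1 := congrArg d hg
    rw [map_mul, map_mul, map_inv, map_inv, mul_comm (d g), mul_assoc, mul_inv_cancel, mul_one] at h1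
    have h3 : d (w * w) = 1 := by rw [map_mul, eq_inv_iff_mul_eq_one.1 h1]
    exact congrArg Units.val h3
  · rw [map_mul]
    exact Int.units_mul_self _

/-- The criterion. -/
theorem real_crit (h2 : (2 : F) ≠ 0) (Q : QuadraticForm F (ι → F))
    (hQ : (QuadraticMap.polarBilin Q).Nondegenerate) (hn : 2 ≤ Fintype.card ι) {w g h : Cfsg.isometryGroup F (⇑Q)}
    (hg : g * w * g⁻¹ = w⁻¹) (hgd : ((g : Matrix.GeneralLinearGroup ι F) : Matrix ι ι F).det = 1)
    (hhd : ((h : Matrix.GeneralLinearGroup ι F) : Matrix ι ι F).det = 1) (hhs : spinorSign (⇑Q) (1 : F) h = -1)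
    (hc : h * w = w * h) :
    w * w ∈ Cfsg.Omega F (⇑Q) ∧ ∃ x ∈ Cfsg.Omega F (⇑Q), x * (w * w) * x⁻¹ = (w * w)⁻¹ := by
  refine ⟨sq_mem_Omega h2 Q hQ hn hg, ?_⟩
  have hsq : ∀ x : Cfsg.isometryGroup F (⇑Q), x * w * x⁻¹ = w⁻¹ → x * (w * w) * x⁻¹ = (w * w)⁻¹ := by
    intro x hx
    have e : x * (w * w) * x⁻¹ = (x * w * x⁻¹) * (x * w * x⁻¹) := by group
    rw [e, hx, _root_.mul_inv_rev]
  rcases Int.units_eq_one_or (spinorSign (⇑Q) (1 : F) g) with h1 | h1
  · exact ⟨g, (mem_Omega_iff h2 Q hQ hn one_ne_zero g).2 ⟨hgd, h1⟩, hsq g hg⟩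
  · refine ⟨g * h, (mem_Omega_iff h2 Q hQ hn one_ne_zero _).2 ⟨?_, ?_⟩, hsq _ ?_⟩
    · rw [Subgroup.coe_mul, Units.val_mul, Matrix.det_mul, hgd, hhd, one_mul]
    · rw [map_mul, h1, hhs]; rfl
    · have e : g * h * w * (g * h)⁻¹ = g * (h * w * h⁻¹) * g⁻¹ := by group
      rw [e, hc, mul_inv_cancel_right, hg]

end crit

end Cfsg.Agent.H907.Odm
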